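import Mathlib

/-!
# The de Rham differential on the exterior algebra of Kähler differentials

`d` is the second component of the algebra map `⋀ Ω → TrivSqZeroExt (⋀ Ω) (⋀ Ω)` which sends
`ω` to `(ω, δ ω)`; the bimodule structure on the second factor is twisted on the left by the
grading involution, so that `(x, z) (y, w) = (x y, z y + σ x · w)`.
-/

universe u

noncomputable section

open ExteriorAlgebra

namespace DeRhamAlg

variable (R A : Type u) [CommRing R] [CommRing A] [Algebra R A]

local notation "E" => ExteriorAlgebra A (KaehlerDifferential R A)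
local notation "Ω'" => KaehlerDifferential R A
local notation "D'" => KaehlerDifferential.D R A
local notation "ι'" => ExteriorAlgebra.ι A (M := KaehlerDifferential R A)

/-- The grading involution. -/
def σ : E →ₐ[A] E :=
  ExteriorAlgebra.lift A ⟨-(ι'), fun m => by
    simp only [LinearMap.neg_apply, neg_mul_neg, ι_sq_zero]⟩

variable {R A}

lemma σ_ι (m : Ω') : σ R A (ι' m) = -ι' m := by
  simp [σ]

lemma σ_σ (x : E) : σ R A (σ R A x) = x := by
  have h : (σ R A).comp (σ R A) = AlgHom.id A E := by
    refine ExteriorAlgebra.hom_ext (LinearMap.ext fun m => ?_)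
    simp [σ_ι]
  exact DFunLike.congr_fun h x

lemma ι_mul (m : Ω') (x : E) : ι' m * x = σ R A x * ι' m := by
  induction x using ExteriorAlgebra.induction with
  | algebraMap r => rw [AlgHom.commutes, Algebra.commutes]
  | ι n => rw [σ_ι, neg_mul, eq_neg_iff_add_eq_zero, ι_add_mul_swap]
  | mul x y hx hy => rw [← mul_assoc, hx, mul_assoc, hy, ← mul_assoc, map_mul]
  | add x y hx hy => rw [mul_add, hx, hy, map_add, add_mul]

variable (R A)

/-- The second factor. -/
def Mod : Type u := E

instance : AddCommGroup (Mod R A) := inferInstanceAs (AddCommGroup E)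

/-- Left action twisted by the involution. -/
instance : Module E (Mod R A) := Module.compHom E (σ R A).toRingHom

instance : Module Eᵐᵒᵖ (Mod R A) := inferInstanceAs (Module Eᵐᵒᵖ E)

instance : SMulCommClass E Eᵐᵒᵖ (Mod R A) :=
  ⟨fun x y (z : E) => (mul_assoc (σ R A x) z y.unop).symm⟩

abbrev T : Type u := TrivSqZeroExt E (Mod R A)

variable {R A}

/-- The pair `(x, z)`. -/
def mk (x z : E) : T R A := (x, z)

/-- Second component, as an element of the exterior algebra. -/
def sn (x : T R A) : E := x.snd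

@[simp] lemma fst_mk (x z : E) : (mk x z).fst = x := rfl
@[simp] lemma sn_mk (x z : E) : sn (mk x z) = z := rfl
@[simp] lemma sn_zero : sn (0 : T R A) = 0 := rfl
@[simp] lemma sn_one : sn (1 : T R A) = 0 := rfl
lemma sn_add (x y : T R A) : sn (x + y) = sn x + sn y := rfl
lemma sn_mul (x y : T R A) : sn (x * y) = σ R A x.fst * sn y + sn x * y.fst := rfl

lemma ext' {x y : T R A} (h1 : x.fst = y.fst) (h2 : sn x = sn y) : x = y := TrivSqZeroExt.ext h1 h2

variable (R A)

/-- `a ↦ (a, da)`. -/
def φ : A →+* T R A where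
  toFun a := mk (algebraMap A E a) (ι' (D' a))
  map_one' := ext' (map_one _) (by simp)
  map_zero' := ext' (map_zero _) (by simp)
  map_add' a b := ext' (map_add _ _ _) (by simp [sn_add])
  map_mul' a b := ext' (map_mul _ _ _) (by
    simp only [sn_mk, sn_mul, fst_mk, AlgHom.commutes, Derivation.leibniz, map_add, map_smul,
      Algebra.smul_def, ← Algebra.commutes b])

lemma φ_commutes (a : A) (x : T R A) : φ R A a * x = x * φ R A a := by
  refine ext' (Algebra.commutes a x.fst) ?_
  simp only [sn_mul, φ, RingHom.coe_mk, MonoidHom.coe_mk, OneHom.coe_mk, fst_mk, sn_mk,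
    AlgHom.commutes, ι_mul, Algebra.commutes]
  exact add_comm _ _

instance algA : Algebra A (T R A) := (φ R A).toAlgebra' (φ_commutes R A)

instance algR : Algebra R (T R A) :=
  ((φ R A).comp (algebraMap R A)).toAlgebra' fun r x => φ_commutes R A _ x

instance : IsScalarTower R A (T R A) := IsScalarTower.of_algebraMap_eq' rfl

lemma smul_eq (a : A) (x : T R A) : a • x = φ R A a * x := Algebra.smul_def a x

lemma fst_smul' (a : A) (x : T R A) : (a • x).fst = a • x.fst := by
  rw [smul_eq, Algebra.smul_def]; rfl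

lemma sn_smul' (a : A) (x : T R A) : sn (a • x) = ι' (D' a) * x.fst + a • sn x := by
  rw [smul_eq, sn_mul, Algebra.smul_def, add_comm]
  simp only [φ, RingHom.coe_mk, MonoidHom.coe_mk, OneHom.coe_mk, fst_mk, sn_mk, AlgHom.commutes]

/-- The derivation `b ↦ (db, 0)`. -/
def derT : Derivation R A (T R A) :=
  Derivation.mk'
    { toFun := fun b => mk (ι' (D' b)) 0
      map_add' := fun b c => ext' (by simp) (by simp [sn_add])
      map_smul' := fun r b => by
        rw [RingHom.id_apply, ← algebraMap_smul A r (mk (ι' (D' b)) 0)]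
        refine ext' ?_ ?_
        · rw [fst_smul', fst_mk, fst_mk, Derivation.map_smul]
          rw [← algebraMap_smul A r (D' b), map_smul]
        · rw [sn_smul', sn_mk, sn_mk, Derivation.map_algebraMap, map_zero, zero_mul, smul_zero, add_zero] }
    fun a b => by
      refine ext' ?_ ?_
      · simp [fst_smul', Derivation.leibniz]
      · simp [sn_smul', sn_add, ι_add_mul_swap]

/-- `ω ↦ (ω, δω)`. -/
def f : Ω' →ₗ[A] T R A := (derT R A).liftKaehlerDifferential

lemma f_D (b : A) : f R A (D' b) = mk (ι' (D' b)) 0 :=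
  (derT R A).liftKaehlerDifferential_comp_D b

lemma f_spec (ω : Ω') : (f R A ω).fst = ι' ω ∧ σ R A (sn (f R A ω)) = sn (f R A ω) ∧
    sn (f R A ω) ∈ ⋀[A]^2 Ω' := by
  have hω : ω ∈ Submodule.span A (Set.range D') := by
    rw [KaehlerDifferential.span_range_derivation]; trivial
  induction hω using Submodule.span_induction with
  | mem y hy => obtain ⟨b, rfl⟩ := hy; rw [f_D]; simp
  | zero => simp
  | add y z _ _ hy hz =>
    rw [map_add, TrivSqZeroExt.fst_add, sn_add, hy.1, hz.1]
    exact ⟨(map_add _ _ _).symm, by rw [map_add, hy.2.1, hz.2.1], add_mem hy.2.2 hz.2.2⟩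
  | smul a y _ hy =>
    rw [map_smul, fst_smul', sn_smul', hy.1]
    refine ⟨(map_smul _ _ _).symm, by rw [map_add, map_mul, map_smul, σ_ι, σ_ι, hy.2.1, neg_mul_neg],
      add_mem ?_ (Submodule.smul_mem _ a hy.2.2)⟩
    rw [exteriorPower, pow_two]
    exact Submodule.mul_mem_mul ⟨_, rfl⟩ ⟨_, rfl⟩

lemma f_sq (ω : Ω') : f R A ω * f R A ω = 0 := by
  obtain ⟨h1, h2, -⟩ := f_spec R A ω
  refine ext' ?_ ?_
  · rw [TrivSqZeroExt.fst_mul, h1, ι_sq_zero, TrivSqZeroExt.fst_zero]
  · rw [sn_mul, h1, σ_ι, neg_mul, ι_mul, h2, sn_zero, neg_add_cancel]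

/-- The algebra map `x ↦ (x, dx)`. -/
def Φ : E →ₐ[A] T R A := ExteriorAlgebra.lift A ⟨f R A, f_sq R A⟩

lemma Φ_ι (ω : Ω') : Φ R A (ι' ω) = f R A ω := by simp [Φ]

lemma Φ_fst (x : E) : (Φ R A x).fst = x := by
  induction x using ExteriorAlgebra.induction with
  | algebraMap r => rw [AlgHom.commutes]; rfl
  | ι n => rw [Φ_ι]; exact (f_spec R A n).1
  | mul x y hx hy => rw [map_mul, TrivSqZeroExt.fst_mul, hx, hy]
  | add x y hx hy => rw [map_add, TrivSqZeroExt.fst_add, hx, hy]

/-- The de Rham differential. -/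
def d : E →ₗ[R] E where
  toFun x := sn (Φ R A x)
  map_add' x y := by rw [map_add, sn_add]
  map_smul' r x := by
    rw [RingHom.id_apply, ← algebraMap_smul A r x, map_smul, sn_smul', Derivation.map_algebraMap,
      map_zero, zero_mul, zero_add, algebraMap_smul]

lemma d_def (x : E) : d R A x = sn (Φ R A x) := rfl

lemma d_mul (x y : E) : d R A (x * y) = d R A x * y + σ R A x * d R A y := by
  rw [d_def, map_mul, sn_mul, Φ_fst, Φ_fst, add_comm]; rfl

lemma d_algebraMap (a : A) : d R A (algebraMap A E a) = ι' (D' a) := by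
  rw [d_def, AlgHom.commutes]; rfl

lemma d_ι (ω : Ω') : d R A (ι' ω) = sn (f R A ω) := by rw [d_def, Φ_ι]

lemma d_D (b : A) : d R A (ι' (D' b)) = 0 := by rw [d_ι, f_D, sn_mk]

lemma σ_of_mem {p : ℕ} {x : E} (hx : x ∈ ⋀[A]^p Ω') : σ R A x = (-1) ^ p * x := by
  induction hx using Submodule.pow_induction_on_left' with
  | algebraMap r => simp
  | add x y i hx hy ihx ihy => rw [map_add, ihx, ihy, mul_add]
  | mem_mul m hm i x hx ih =>
    obtain ⟨m, rfl⟩ := hm
    rw [map_mul, σ_ι, ih, pow_succ', neg_one_mul, neg_mul, neg_mul, ← mul_assoc, ← mul_assoc,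
      (Commute.neg_one_left (ι' m)).pow_left i]

lemma d_mem {p : ℕ} {x : E} (hx : x ∈ ⋀[A]^p Ω') : d R A x ∈ ⋀[A]^(p + 1) Ω' := by
  induction hx using Submodule.pow_induction_on_left' with
  | algebraMap r => rw [d_algebraMap, exteriorPower, pow_one]; exact ⟨_, rfl⟩
  | add x y i hx hy ihx ihy => rw [map_add]; exact add_mem ihx ihy
  | mem_mul m hm i x hx ih =>
    obtain ⟨m, rfl⟩ := hm
    rw [d_mul, d_ι, σ_ι, neg_mul]
    refine add_mem ?_ (neg_mem ?_)
    · rw [exteriorPower, show i.succ + 1 = 2 + i by omega, pow_add]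
      exact Submodule.mul_mem_mul (f_spec R A m).2.2 hx
    · rw [exteriorPower, show i.succ + 1 = (i + 1) + 1 from rfl, pow_succ']
      exact Submodule.mul_mem_mul ⟨_, rfl⟩ ih

lemma σ_d (x : E) : σ R A (d R A x) = -d R A (σ R A x) := by
  induction x using ExteriorAlgebra.induction with
  | algebraMap r => rw [AlgHom.commutes, d_algebraMap, σ_ι]
  | ι n => rw [σ_ι, map_neg, d_ι, (f_spec R A n).2.1, neg_neg]
  | mul x y hx hy =>
    rw [d_mul, map_add, map_mul, map_mul, map_mul, d_mul, σ_σ, hx, hy, neg_mul, mul_neg]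
    abel
  | add x y hx hy => simp only [map_add, hx, hy]; abel

lemma d_d (x : E) : d R A (d R A x) = 0 := by
  induction x using ExteriorAlgebra.induction with
  | algebraMap r => rw [d_algebraMap, d_D]
  | ι n =>
    have hω : n ∈ Submodule.span A (Set.range D') := by
      rw [KaehlerDifferential.span_range_derivation]; trivial
    induction hω using Submodule.span_induction with
    | mem y hy => obtain ⟨b, rfl⟩ := hy; rw [d_D, map_zero]
    | zero => simp
    | add y z _ _ hy hz => rw [map_add, map_add, map_add, hy, hz, add_zero]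
    | smul a y _ hy =>
      rw [map_smul, Algebra.smul_def, d_mul, d_algebraMap, AlgHom.commutes, map_add, d_mul, d_D,
        zero_mul, zero_add, σ_ι, d_mul, d_algebraMap, hy, mul_zero, add_zero, neg_mul, neg_add_cancel]
  | mul x y hx hy =>
    rw [d_mul, map_add, d_mul, d_mul, hx, hy, σ_d, zero_mul, zero_add, mul_zero, add_zero, neg_mul,
      neg_add_cancel]
  | add x y hx hy => rw [map_add, map_add, hx, hy, add_zero]

variable {R A}

theorem unique (e : E →ₗ[R] E)
    (h0 : ∀ a : A, e (algebraMap A E a) = ι' (D' a))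
    (hmul : ∀ (p : ℕ) (x y : E), x ∈ ⋀[A]^p Ω' → e (x * y) = e x * y + (-1) ^ p * x * e y)
    (hdd : ∀ x, e (e x) = 0) : e = d R A := by
  have hQ : ∀ x y : E, e (x * y) = e x * y + σ R A x * e y := by
    intro x
    induction x using ExteriorAlgebra.induction with
    | algebraMap r =>
      intro y
      have hr : algebraMap A E r ∈ ⋀[A]^0 Ω' := Submodule.algebraMap_mem r
      rw [hmul 0 _ y (by simpa using hr), AlgHom.commutes, pow_zero, one_mul]
    | ι n =>
      intro y
      have hn : ι' n ∈ ⋀[A]^1 Ω' := by rw [exteriorPower, pow_one]; exact ⟨n, rfl⟩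
      rw [hmul 1 _ y hn, σ_ι, pow_one, neg_one_mul]
    | mul x x' hx hx' =>
      intro y
      rw [mul_assoc, hx, hx', hx, map_mul, add_mul, mul_add, mul_assoc, mul_assoc, mul_assoc, add_assoc]
    | add x x' hx hx' =>
      intro y
      rw [add_mul, map_add, hx, hx', map_add, map_add, add_mul, add_mul]
      abel
  refine LinearMap.ext fun x => ?_
  induction x using ExteriorAlgebra.induction with
  | algebraMap r => rw [h0, d_algebraMap]
  | ι n =>
    have hω : n ∈ Submodule.span A (Set.range D') := by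
      rw [KaehlerDifferential.span_range_derivation]; trivial
    induction hω using Submodule.span_induction with
    | mem y hy => obtain ⟨b, rfl⟩ := hy; rw [d_D, ← h0, hdd]
    | zero => simp
    | add y z _ _ hy hz => simp only [map_add, hy, hz]
    | smul a y _ hy =>
      rw [map_smul, Algebra.smul_def, hQ, h0, d_mul, d_algebraMap, hy]
  | mul x y hx hy => rw [hQ, d_mul, hx, hy]
  | add x y hx hy => rw [map_add, map_add, hx, hy]

end DeRhamAlg
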