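import Mathlib
import Groth.Prelude.Def_DeRham
import Groth.Agent.ExtBCLib.DeRham
import Groth.Agent.DeRhamAlgLib.Main

/-! Poincaré lemma for a polynomial variable in characteristic zero. -/

universe u

noncomputable section

open ExteriorAlgebra CliffordAlgebra Polynomial

namespace DeRhamAlg

variable (R A : Type u) [CommRing R] [CommRing A] [Algebra R A]

/-- `gen` inside the exterior algebra. -/
lemma coe_gen {p : ℕ} (b₀ : A) (b : Fin p → A) :
    ((DeRham.gen (KaehlerDifferential.D R A) p b₀ b : ↥(⋀[A]^p (Ω[A⁄R]))) : ExteriorAlgebra A (KaehlerDifferential R A)) =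
      b₀ • ExteriorAlgebra.ιMulti A p (fun i => KaehlerDifferential.D R A (b i)) := rfl

lemma coe_gen_succ {p : ℕ} (b₀ a : A) (b : Fin p → A) :
    ((DeRham.gen (KaehlerDifferential.D R A) (p + 1) b₀ (Fin.cons a b) : ↥(⋀[A]^(p + 1) (Ω[A⁄R]))) : ExteriorAlgebra A (KaehlerDifferential R A)) =
      b₀ • (ExteriorAlgebra.ι A (KaehlerDifferential.D R A a) *
        ExteriorAlgebra.ιMulti A p (fun i => KaehlerDifferential.D R A (b i))) := by
  rw [coe_gen, ExteriorAlgebra.ιMulti_succ_apply]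
  simp [Matrix.vecTail, Function.comp_def]

lemma d_wedge (p : ℕ) (b : Fin p → A) :
    d R A (ExteriorAlgebra.ιMulti A p (fun i => KaehlerDifferential.D R A (b i))) = 0 := by
  induction p with
  | zero =>
    rw [ExteriorAlgebra.ιMulti_zero_apply, ← map_one (algebraMap A _), d_algebraMap, Derivation.map_one_eq_zero,
      map_zero]
  | succ p ih =>
    rw [ExteriorAlgebra.ιMulti_succ_apply, d_mul, d_D, zero_mul, zero_add]
    refine mul_eq_zero_of_right _ ?_
    exact ih (fun i => b i.succ)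

variable {R A}

lemma coe_diff (d' : ∀ p : ℕ, ↥(⋀[A]^p (Ω[A⁄R])) →ₗ[R] ↥(⋀[A]^(p + 1) (Ω[A⁄R])))
    (hd : DeRham.IsRule (KaehlerDifferential.D R A) d') (p : ℕ) (x : ↥(⋀[A]^p (Ω[A⁄R]))) :
    (d' p x : ExteriorAlgebra A (Ω[A⁄R])) = d R A x := by
  let f : ↥(⋀[A]^p (Ω[A⁄R])) →+ ExteriorAlgebra A (Ω[A⁄R]) :=
    ((⋀[A]^(p + 1) (Ω[A⁄R])).subtype.toAddMonoidHom).comp (d' p).toAddMonoidHom
  let g : ↥(⋀[A]^p (Ω[A⁄R])) →+ ExteriorAlgebra A (Ω[A⁄R]) :=
    (d R A).toAddMonoidHom.comp (⋀[A]^p (Ω[A⁄R])).subtype.toAddMonoidHom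
  have : f = g := ExtBC.addHom_ext_gen _ _ fun b₀ b => by
    show ((d' p (DeRham.gen _ p b₀ b) : ↥(⋀[A]^(p + 1) (Ω[A⁄R]))) : ExteriorAlgebra A (Ω[A⁄R])) =
      d R A ((DeRham.gen (KaehlerDifferential.D R A) p b₀ b : ↥(⋀[A]^p (Ω[A⁄R]))) : ExteriorAlgebra A (Ω[A⁄R]))
    rw [hd, coe_gen, Algebra.smul_def, d_mul, d_algebraMap, d_wedge, mul_zero, add_zero,
      exteriorPower.ιMulti_apply_coe, ExteriorAlgebra.ιMulti_succ_apply]
    simp [Matrix.vecTail, Function.comp_def]
  exact DFunLike.congr_fun this x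

section Poly

variable (R A)

local notation "P" => Polynomial A
local notation "Ωp" => KaehlerDifferential R (Polynomial A)
local notation "Ep" => ExteriorAlgebra (Polynomial A) (KaehlerDifferential R (Polynomial A))
local notation "Dp" => KaehlerDifferential.D R (Polynomial A)

/-- `t ∂_t`. -/
def euler : Derivation R P P :=
  (Polynomial.X : P) • (Polynomial.derivative' (R := A)).restrictScalars R

lemma euler_monomial (a : A) (j : ℕ) : euler R A (monomial j a) = (j : R) • monomial j a := by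
  show (Polynomial.X : Polynomial A) • derivative (monomial j a) = _
  rw [smul_eq_mul, Polynomial.derivative_monomial, Polynomial.X_mul_monomial, Polynomial.smul_monomial]
  rcases j with _ | j
  · simp
  · simp [Algebra.smul_def, mul_comm]

/-- Contraction with `t ∂_t`. -/
def con : Ep →ₗ[P] Ep := CliffordAlgebra.contractLeft (euler R A).liftKaehlerDifferential

lemma con_ι (ω : Ωp) :
    con R A (ExteriorAlgebra.ι P ω) = algebraMap P Ep ((euler R A).liftKaehlerDifferential ω) :=
  CliffordAlgebra.contractLeft_ι _ _ _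

lemma con_algebraMap (a : P) : con R A (algebraMap P Ep a) = 0 :=
  CliffordAlgebra.contractLeft_algebraMap _ _ _

lemma con_ι_mul (ω : Ωp) (x : Ep) :
    con R A (ExteriorAlgebra.ι P ω * x) =
      (euler R A).liftKaehlerDifferential ω • x - ExteriorAlgebra.ι P ω * con R A x :=
  CliffordAlgebra.contractLeft_ι_mul _ _ _

lemma con_mul (x y : Ep) :
    con R A (x * y) = con R A x * y + σ R P x * con R A y := by
  induction x using ExteriorAlgebra.induction generalizing y with
  | algebraMap r =>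
    rw [← Algebra.smul_def, map_smul, con_algebraMap, zero_mul, zero_add, AlgHom.commutes, Algebra.smul_def]
  | ι n => rw [con_ι_mul, con_ι, σ_ι, Algebra.smul_def, neg_mul, sub_eq_add_neg]
  | mul x x' hx hx' =>
    rw [mul_assoc, hx, hx', hx, map_mul, mul_add, add_mul, mul_assoc, mul_assoc, mul_assoc, add_assoc]
  | add x x' hx hx' => simp only [add_mul, map_add, hx, hx']; abel

lemma σ_con (x : Ep) : σ R P (con R A x) = -con R A (σ R P x) := by
  induction x using ExteriorAlgebra.induction with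
  | algebraMap r => rw [con_algebraMap, map_zero, AlgHom.commutes, con_algebraMap, neg_zero]
  | ι n => rw [σ_ι, map_neg, neg_neg, con_ι, AlgHom.commutes]
  | mul x y hx hy =>
    rw [con_mul, map_add, map_mul, map_mul, map_mul, con_mul, σ_σ, hx, hy, neg_mul, mul_neg]
    abel
  | add x y hx hy => simp only [map_add, hx, hy]; abel

/-- Lie derivative along `t ∂_t`. -/
def Lie : Ep →ₗ[R] Ep :=
  (con R A).restrictScalars R ∘ₗ d R P + d R P ∘ₗ (con R A).restrictScalars R

lemma Lie_apply (x : Ep) : Lie R A x = con R A (d R P x) + d R P (con R A x) := rfl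

lemma Lie_d (x : Ep) : Lie R A (d R P x) = d R P (Lie R A x) := by
  rw [Lie_apply, Lie_apply, map_add, d_d, d_d, map_zero, zero_add, add_zero]

lemma Lie_mul (x y : Ep) : Lie R A (x * y) = Lie R A x * y + x * Lie R A y := by
  simp only [Lie_apply, d_mul, con_mul, map_add, σ_con, σ_d, σ_σ, neg_mul, mul_add, add_mul]
  abel

lemma Lie_algebraMap (a : A) (j : ℕ) :
    Lie R A (algebraMap P Ep (monomial j a)) = (j : R) • algebraMap P Ep (monomial j a) := by
  rw [Lie_apply, con_algebraMap, map_zero, add_zero, d_algebraMap, con_ι,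
    Derivation.liftKaehlerDifferential_comp_D, euler_monomial]
  rw [← algebraMap_smul P (j : R) (algebraMap P Ep (monomial j a)), Algebra.smul_def, Algebra.smul_def,
    map_mul]

lemma Lie_D (a : A) (j : ℕ) :
    Lie R A (ExteriorAlgebra.ι P (Dp (monomial j a))) = (j : R) • ExteriorAlgebra.ι P (Dp (monomial j a)) := by
  rw [Lie_apply, d_D, map_zero, zero_add, con_ι, Derivation.liftKaehlerDifferential_comp_D, d_algebraMap,
    euler_monomial, Derivation.map_smul, LinearMap.map_smul_of_tower]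

lemma Lie_mul_eigen {x y : Ep} {v w : ℕ} (hx : Lie R A x = (v : R) • x) (hy : Lie R A y = (w : R) • y) :
    Lie R A (x * y) = ((v + w : ℕ) : R) • (x * y) := by
  rw [Lie_mul, hx, hy, Nat.cast_add, add_smul, smul_mul_assoc, mul_smul_comm]

lemma Lie_wedge (p : ℕ) (a : Fin p → A) (j : Fin p → ℕ) :
    Lie R A (ExteriorAlgebra.ιMulti P p (fun i => Dp (monomial (j i) (a i)))) =
      ((∑ i, j i : ℕ) : R) • ExteriorAlgebra.ιMulti P p (fun i => Dp (monomial (j i) (a i))) := by
  induction p with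
  | zero =>
    rw [ExteriorAlgebra.ιMulti_zero_apply, ← map_one (algebraMap P Ep),
      show (1 : P) = monomial 0 1 from rfl, Lie_algebraMap]
    simp
  | succ p ih =>
    rw [ExteriorAlgebra.ιMulti_succ_apply, Fin.sum_univ_succ]
    exact Lie_mul_eigen R A (Lie_D R A (a 0) (j 0)) (ih (fun i => a i.succ) (fun i => j i.succ))

lemma Lie_gen (p : ℕ) (a₀ : A) (j₀ : ℕ) (a : Fin p → A) (j : Fin p → ℕ) :
    Lie R A ((DeRham.gen Dp p (monomial j₀ a₀) (fun i => monomial (j i) (a i)) : ↥(⋀[Polynomial A]^p Ωp)) : Ep) =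
      ((j₀ + ∑ i, j i : ℕ) : R) • ((DeRham.gen Dp p (monomial j₀ a₀) (fun i => monomial (j i) (a i)) : ↥(⋀[Polynomial A]^p Ωp)) : Ep) := by
  rw [coe_gen, Algebra.smul_def]
  exact Lie_mul_eigen R A (Lie_algebraMap R A a₀ j₀) (Lie_wedge R A p a j)

lemma con_mem (i : ℕ) {x : Ep} (hx : x ∈ ⋀[P]^i Ωp) :
    (i = 0 → con R A x = 0) ∧ con R A x ∈ ⋀[P]^(i - 1) Ωp := by
  induction hx using Submodule.pow_induction_on_left' with
  | algebraMap r => rw [con_algebraMap]; exact ⟨fun _ => rfl, zero_mem _⟩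
  | add x y i hx hy ihx ihy =>
    rw [map_add]
    exact ⟨fun h => by rw [ihx.1 h, ihy.1 h, add_zero], add_mem ihx.2 ihy.2⟩
  | mem_mul m hm i x hx ih =>
    refine ⟨fun h => absurd h (Nat.succ_ne_zero i), ?_⟩
    obtain ⟨m, rfl⟩ := hm
    rw [con_ι_mul]
    refine sub_mem (Submodule.smul_mem _ _ (by simpa using hx)) ?_
    rcases i with _ | i
    · rw [ih.1 rfl, mul_zero]; exact zero_mem _
    · rw [exteriorPower, show (i + 1).succ - 1 = i + 1 from rfl, pow_succ']
      exact Submodule.mul_mem_mul ⟨m, rfl⟩ (by simpa using ih.2)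

/-- Span of forms of weight between `1` and `N`. -/
def S (i N : ℕ) : Submodule R Ep :=
  Submodule.span R {x | x ∈ ⋀[P]^i Ωp ∧ ∃ w : ℕ, 1 ≤ w ∧ w ≤ N ∧ Lie R A x = (w : R) • x}

lemma mem_of_mem_S {i N : ℕ} {x : Ep} (hx : x ∈ S R A i N) : x ∈ ⋀[P]^i Ωp := by
  refine (Submodule.span_le.mpr ?_ hx : x ∈ (⋀[P]^i Ωp).restrictScalars R)
  exact fun y hy => hy.1

lemma S_mono (i : ℕ) {N M : ℕ} (h : N ≤ M) : S R A i N ≤ S R A i M :=
  Submodule.span_mono fun _ ⟨h0, w, h1, h2, h3⟩ => ⟨h0, w, h1, h2.trans h, h3⟩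

theorem exact_of_mem_S [Algebra ℚ R] {i N : ℕ} {z : Ep} (hz : z ∈ S R A i N) (hd : d R P z = 0) :
    (i = 0 → z = 0) ∧ ∃ v ∈ ⋀[P]^(i - 1) Ωp, d R P v = z := by
  induction N generalizing z with
  | zero =>
    have : z = 0 := by
      refine (Submodule.span_le (p := ⊥)).mpr ?_ hz
      rintro y ⟨-, w, h1, h2, -⟩
      omega
    exact ⟨fun _ => this, 0, zero_mem _, by rw [map_zero, this]⟩
  | succ N ih =>
    let c : R := algebraMap ℚ R ((N + 1 : ℕ) : ℚ)⁻¹
    have hc : c * ((N + 1 : ℕ) : R) = 1 := by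
      rw [← map_natCast (algebraMap ℚ R), ← map_mul, inv_mul_cancel₀ (by positivity), map_one]
    have hz' : z - c • Lie R A z ∈ S R A i N := by
      clear hd
      induction hz using Submodule.span_induction with
      | mem y hy =>
        obtain ⟨h0, w, h1, h2, h3⟩ := hy
        rw [h3, smul_smul]
        rcases eq_or_lt_of_le h2 with rfl | hlt
        · rw [hc, one_smul, sub_self]; exact zero_mem _
        · rw [show y - (c * (w : R)) • y = (1 - c * (w : R)) • y by rw [sub_smul, one_smul]]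
          exact Submodule.smul_mem _ _ (Submodule.subset_span ⟨h0, w, h1, Nat.lt_succ_iff.mp hlt, h3⟩)
      | zero => simp
      | add y y' _ _ hy hy' =>
        rw [map_add, smul_add, add_sub_add_comm]; exact add_mem hy hy'
      | smul r y _ hy =>
        rw [map_smul, smul_comm c r, ← smul_sub]; exact Submodule.smul_mem _ _ hy
    have hL : Lie R A z = d R P (con R A z) := by rw [Lie_apply, hd, map_zero, zero_add]
    obtain ⟨h0, v, hv, hv'⟩ := ih hz' (by rw [map_sub, map_smul, ← Lie_d, hd, map_zero, smul_zero, sub_zero])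
    obtain ⟨hc0, hcm⟩ := con_mem R A i (mem_of_mem_S R A hz)
    refine ⟨fun hi => ?_, v + c • con R A z, add_mem hv (Submodule.smul_of_tower_mem _ c hcm), ?_⟩
    · have := h0 hi
      rwa [hL, hc0 hi, map_zero, smul_zero, sub_zero] at this
    · rw [map_add, map_smul, hv', ← hL, sub_add_cancel]

/-- Monomial generators. -/
def M (i : ℕ) : AddSubgroup Ep :=
  AddSubgroup.closure {x | ∃ (a₀ : A) (j₀ : ℕ) (a : Fin i → A) (j : Fin i → ℕ),
    x = ((DeRham.gen Dp i (monomial j₀ a₀) (fun l => monomial (j l) (a l)) : ↥(⋀[Polynomial A]^i Ωp)) : Ep)}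

lemma smul_mem_M (q : P) {i : ℕ} {x : Ep} (hx : x ∈ M R A i) : q • x ∈ M R A i := by
  induction q using Polynomial.induction_on' with
  | add q q' hq hq' => rw [add_smul]; exact add_mem hq hq'
  | monomial n b =>
    induction hx using AddSubgroup.closure_induction with
    | mem y hy =>
      obtain ⟨a₀, j₀, a, j, rfl⟩ := hy
      refine AddSubgroup.subset_closure ⟨b * a₀, n + j₀, a, j, ?_⟩
      rw [coe_gen, coe_gen, smul_smul, monomial_mul_monomial]
    | zero => rw [smul_zero]; exact zero_mem _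
    | add y y' _ _ hy hy' => rw [smul_add]; exact add_mem hy hy'
    | neg y _ hy => rw [smul_neg]; exact neg_mem hy

lemma mem_M {i : ℕ} {x : Ep} (hx : x ∈ ⋀[P]^i Ωp) : x ∈ M R A i := by
  induction hx using Submodule.pow_induction_on_left' with
  | algebraMap r =>
    rw [Algebra.algebraMap_eq_smul_one]
    refine smul_mem_M R A r (AddSubgroup.subset_closure ⟨1, 0, Fin.elim0, Fin.elim0, ?_⟩)
    rw [coe_gen, ExteriorAlgebra.ιMulti_zero_apply, show monomial 0 (1 : A) = (1 : P) from rfl, one_smul]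
  | add x y i hx hy ihx ihy => exact add_mem ihx ihy
  | mem_mul m hm i x hx ih =>
    obtain ⟨m, rfl⟩ := hm
    have hm : m ∈ Submodule.span P (Set.range Dp) := by
      rw [KaehlerDifferential.span_range_derivation]; trivial
    induction hm using Submodule.span_induction with
    | mem y hy =>
      obtain ⟨q, rfl⟩ := hy
      induction q using Polynomial.induction_on' with
      | add q q' hq hq' => rw [map_add, map_add, add_mul]; exact add_mem hq hq'
      | monomial n b =>
        clear hx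
        induction ih using AddSubgroup.closure_induction with
        | mem y hy =>
          obtain ⟨a₀, j₀, a, j, rfl⟩ := hy
          refine AddSubgroup.subset_closure ⟨a₀, j₀, Fin.cons b a, Fin.cons n j, ?_⟩
          rw [show (fun l => monomial ((Fin.cons n j : Fin (i + 1) → ℕ) l) ((Fin.cons b a : Fin (i + 1) → A) l)) =
              (Fin.cons (monomial n b) (fun l => monomial (j l) (a l)) : Fin (i + 1) → P) from
            funext fun l => by refine Fin.cases ?_ ?_ l <;> simp]
          rw [coe_gen_succ, coe_gen, mul_smul_comm]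
        | zero => rw [mul_zero]; exact zero_mem _
        | add y y' _ _ hy hy' => rw [mul_add]; exact add_mem hy hy'
        | neg y _ hy => rw [mul_neg]; exact neg_mem hy
    | zero => rw [map_zero, zero_mul]; exact zero_mem _
    | add y y' _ _ hy hy' => rw [map_add, add_mul]; exact add_mem hy hy'
    | smul q y _ hy => rw [map_smul, smul_mul_assoc]; exact smul_mem_M R A q hy

/-- Evaluation at zero of forms. -/
theorem exists_retraction :
    ∃ ρ : ∀ p : ℕ, ↥(⋀[P]^p Ωp) →+ ↥(⋀[A]^p (Ω[A⁄R])), ∀ (p : ℕ) (b₀ : P) (b : Fin p → P),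
      ρ p (DeRham.gen Dp p b₀ b) =
        DeRham.gen (KaehlerDifferential.D R A) p (b₀.eval 0) (fun i => (b i).eval 0) := by
  letI : Algebra P A := (Polynomial.evalRingHom (0 : A)).toAlgebra
  haveI : IsScalarTower R P A := IsScalarTower.of_algebraMap_eq fun r => by
    show algebraMap R A r = Polynomial.eval 0 (algebraMap R P r)
    rw [Polynomial.algebraMap_apply, Polynomial.eval_C]
  haveI := ExtBC.smulCommClass' R P A
  refine ⟨fun p => (ExtBC.mapRestrict (B := A) (KaehlerDifferential.map R R P A) p).toAddMonoidHom,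
    fun p b₀ b => ?_⟩
  simp only [DeRham.gen, LinearMap.toAddMonoidHom_coe, map_smul, ExtBC.mapRestrict_ιMulti,
    KaehlerDifferential.map_D]
  rw [← algebraMap_smul A b₀]
  rfl

variable {R A}

theorem main [Algebra ℚ R]
    (dA : ∀ p : ℕ, ↥(⋀[A]^p (Ω[A⁄R])) →ₗ[R] ↥(⋀[A]^(p + 1) (Ω[A⁄R])))
    (hd : DeRham.IsDiff (KaehlerDifferential.D R A) dA)
    (d' : ∀ p : ℕ, ↥(⋀[P]^p Ωp) →ₗ[R] ↥(⋀[P]^(p + 1) Ωp))
    (hd' : DeRham.IsDiff Dp d')
    (ψ : ∀ p : ℕ, ↥(⋀[A]^p (Ω[A⁄R])) →+ ↥(⋀[P]^p Ωp))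
    (hψ : DeRham.IsCxMap (KaehlerDifferential.D R A) Dp (algebraMap A P) ψ)
    (hcomm : ∀ (p : ℕ) (x : ↥(⋀[A]^p (Ω[A⁄R]))), ψ (p + 1) (dA p x) = d' p (ψ p x)) (i : ℕ) :
    (∀ y ∈ DeRham.cocycles d' i, ∃ x ∈ DeRham.cocycles dA i, y - ψ i x ∈ DeRham.coboundaries d' i) ∧
      (∀ x ∈ DeRham.cocycles dA i, ψ i x ∈ DeRham.coboundaries d' i → x ∈ DeRham.coboundaries dA i) := by
  obtain ⟨ρ, hρ⟩ := exists_retraction R A
  have hsec : ∀ (p : ℕ) (x : ↥(⋀[A]^p (Ω[A⁄R]))), ρ p (ψ p x) = x := fun p => DFunLike.congr_fun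
    (ExtBC.addHom_ext_gen ((ρ p).comp (ψ p)) (AddMonoidHom.id _) fun b₀ b => by
      rw [AddMonoidHom.comp_apply, hψ, hρ]
      simp)
  have hρd : ∀ (p : ℕ) (y : ↥(⋀[P]^p Ωp)), ρ (p + 1) (d' p y) = dA p (ρ p y) := fun p => DFunLike.congr_fun
    (ExtBC.addHom_ext_gen ((ρ (p + 1)).comp (d' p).toAddMonoidHom) ((dA p).toAddMonoidHom.comp (ρ p)) fun b₀ b => by
      have e : ∀ (B : Type u) [CommRing B] [Algebra R B] (c₀ : B) (c : Fin p → B),
          exteriorPower.ιMulti B (p + 1) (Fin.cons (KaehlerDifferential.D R B c₀) fun i => KaehlerDifferential.D R B (c i)) =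
            DeRham.gen (KaehlerDifferential.D R B) (p + 1) 1 (Fin.cons c₀ c) := by
        intro B _ _ c₀ c
        rw [DeRham.gen, one_smul]
        congr 1
        funext l
        refine Fin.cases ?_ ?_ l <;> simp
      simp only [AddMonoidHom.comp_apply, LinearMap.toAddMonoidHom_coe, hd'.1 p b₀ b, hρ, e, Polynomial.eval_one]
      refine Eq.trans ?_ ((hd.1 p _ _).trans (e A _ _)).symm
      congr 1
      funext l
      refine Fin.cases ?_ ?_ l <;> simp)
  refine ⟨fun y hy => ?_, fun x hx hex => ?_⟩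
  · have hy' : d' i y = 0 := hy
    refine ⟨ρ i y, ?_, ?_⟩
    · show dA i (ρ i y) = 0
      rw [← hρd, hy', map_zero]
    set z := y - ψ i (ρ i y) with hzdef
    have hdz : d' i z = 0 := by
      rw [hzdef, map_sub, hy', ← hcomm, ← hρd, hy', map_zero, map_zero, sub_zero]
    obtain ⟨N, hN⟩ : ∃ N, (z : Ep) ∈ S R A i N := by
      let T : AddSubgroup ↥(⋀[P]^i Ωp) :=
        { carrier := {w | ∃ N, ((w - ψ i (ρ i w) : ↥(⋀[P]^i Ωp)) : Ep) ∈ S R A i N}
          zero_mem' := ⟨0, by simp⟩
          add_mem' := fun {a b} ⟨N, hN⟩ ⟨N', hN'⟩ => ⟨max N N', by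
            rw [map_add, map_add, add_sub_add_comm, Submodule.coe_add]
            exact add_mem (S_mono R A i (le_max_left _ _) hN) (S_mono R A i (le_max_right _ _) hN')⟩
          neg_mem' := fun {a} ⟨N, hN⟩ => ⟨N, by
            rw [map_neg, map_neg, neg_sub_neg, ← neg_sub, Submodule.coe_neg]; exact neg_mem hN⟩ }
      have hall : (y : Ep) ∈ T.map (⋀[P]^i Ωp).subtype.toAddMonoidHom := by
        refine (AddSubgroup.closure_le _).mpr ?_ (mem_M R A y.2)
        rintro _ ⟨a₀, j₀, a, j, rfl⟩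
        refine ⟨DeRham.gen Dp i (monomial j₀ a₀) (fun l => monomial (j l) (a l)), ?_, rfl⟩
        by_cases hw : j₀ + ∑ l, j l = 0
        · refine ⟨0, ?_⟩
          have h0 : j₀ = 0 ∧ ∀ l, j l = 0 := by
            refine ⟨by omega, fun l => ?_⟩
            have := Finset.single_le_sum (fun l _ => Nat.zero_le (j l)) (Finset.mem_univ l)
            omega
          have hj : j = fun _ => 0 := funext h0.2
          subst hj
          rw [h0.1, hρ, hψ]
          simp
        · refine ⟨j₀ + ∑ l, j l, ?_⟩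
          have hρ0 : ρ i (DeRham.gen Dp i (monomial j₀ a₀) (fun l => monomial (j l) (a l))) = 0 := by
            rw [hρ, DeRham.gen]
            by_cases hj₀ : j₀ = 0
            · obtain ⟨l, hl⟩ : ∃ l, j l ≠ 0 := by
                by_contra h
                push Not at h
                simp [hj₀, h] at hw
              rw [(exteriorPower.ιMulti A i).map_coord_zero l (by simp [zero_pow hl]), smul_zero]
            · simp [zero_pow hj₀]
          rw [hρ0, map_zero, sub_zero]
          exact Submodule.subset_span ⟨Submodule.coe_mem _, _, Nat.one_le_iff_ne_zero.mpr hw, le_rfl,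
            Lie_gen R A i a₀ j₀ a j⟩
      obtain ⟨w, hw, hwy⟩ := hall
      obtain rfl : w = y := Subtype.ext hwy
      exact hw
    have hdz' : d R P (z : Ep) = 0 := by rw [← coe_diff d' hd'.1, hdz, Submodule.coe_zero]
    obtain ⟨h0, v, hv, hvz⟩ := exact_of_mem_S R A hN hdz'
    cases i with
    | zero =>
      show z ∈ (⊥ : Submodule R _)
      rw [Submodule.mem_bot]
      exact Subtype.ext (h0 rfl)
    | succ i =>
      refine ⟨⟨v, hv⟩, Subtype.ext ?_⟩
      rw [coe_diff d' hd'.1]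
      exact hvz
  · cases i with
    | zero =>
      show x ∈ (⊥ : Submodule R _)
      have h : ψ 0 x = 0 := hex
      rw [Submodule.mem_bot, ← hsec 0 x, h, map_zero]
    | succ i =>
      obtain ⟨w, hw⟩ := hex
      refine ⟨ρ i w, ?_⟩
      rw [← hρd, hw, hsec]

end Poly

end DeRhamAlg
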